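import Groth.Agent.Lib.TorsPush.Datum
import Groth.Agent.Lib.FFDesc.Effective
import Groth.Agent.Lib.TorsorSch.Basic
import Groth.Agent.Lib.TorsorSch.Descent

/-!
# Extension of the structure group of a torsor along a homomorphism to an affine group

`exists_pushforward`: for a torsor `P` under `G` whose structure morphism is an fpqc cover and a
homomorphism `φ : G ⟶ G'` with `G'` affine over the base, a `G'`-torsor with a `φ`-equivariant
morphism from `P` exists, and is affine over the base.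
-/

set_option autoImplicit false
set_option linter.style.haveILetI false
set_option linter.unusedSectionVars false

noncomputable section

universe u

open CategoryTheory CategoryTheory.Limits MonoidalCategory CartesianMonoidalCategory AlgebraicGeometry
open scoped MonObj GrpObj

namespace Groth.Agent.Lib.TorsPush

open FFDesc

variable {S : Scheme.{u}} {G G' P : Over S} [GrpObj G] [GrpObj G']
  {a : AlgGrp.Action G P} {φ : G ⟶ G'} [IsMonHom φ] {ha : NonAbH1.IsPseudoTorsorSch a}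
  {Q : Over S} {q : (G' ⊗ P).left ⟶ Q.left} (H : IsDescended (datum a φ ha) Q q) (hp : fpqcCover P.hom)

/-- The quotient map of the contracted product, over the base. -/
def qo : G' ⊗ P ⟶ Q := Over.homMk q (H.isPullback.w.symm.trans (snd_left_comp (G' := G') (P := P)))

theorem fst_qo {T : Over S} (v w : T ⟶ G' ⊗ P) (e : v ≫ qo H = w ≫ qo H) :
    w ≫ fst G' P = (v ≫ fst G' P) * ((lift (v ≫ snd G' P) (w ≫ snd G' P) ≫ diff a ha) ≫ φ)⁻¹ := by
  have h := tr_of_comp_q H v w (congrArg Over.Hom.left e)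
  have h' := congrArg (· ≫ fst G' P) h
  simp only [tr_eq, lift_fst] at h'
  exact h'.symm

theorem tr_qo {T : Over S} (v : T ⟶ G' ⊗ P) (x : T ⟶ P) : tr a φ ha v x ≫ qo H = v ≫ qo H :=
  Over.OverMorphism.ext (tr_comp_q H v x)

/-- Left translation, before descent. -/
def m₀ : G' ⊗ (G' ⊗ P) ⟶ Q :=
  lift (fst _ _ * (snd G' (G' ⊗ P) ≫ fst G' P)) (snd G' (G' ⊗ P) ≫ snd G' P) ≫ qo H

theorem comp_m₀ {T : Over S} (h : T ⟶ G') (v : T ⟶ G' ⊗ P) :
    lift h v ≫ m₀ H = lift (h * (v ≫ fst G' P)) (v ≫ snd G' P) ≫ qo H := by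
  simp only [m₀, comp_lift_assoc, MonObj.comp_mul, lift_fst, lift_snd_assoc]

theorem m₀_congr {T : Over S} (h : T ⟶ G') (v w : T ⟶ G' ⊗ P) (e : v ≫ qo H = w ≫ qo H) :
    lift h v ≫ m₀ H = lift h w ≫ m₀ H := by
  rw [comp_m₀, comp_m₀, fst_qo H v w e, ← tr_qo H (lift (h * (v ≫ fst G' P)) (v ≫ snd G' P)) (w ≫ snd G' P),
    tr_eq, lift_fst, lift_snd, mul_assoc]

variable {H} in
theorem effectiveEpi_whiskerLeft (hp : fpqcCover P.hom) (W : Over S) :
    EffectiveEpi (W ◁ qo H).left :=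
  (GrpSch.whiskerLeft_left_of (P := fpqcCover) W (qo H) (H.cover hp)).effectiveEpi

variable {H} in
theorem epi_whiskerLeft (hp : fpqcCover P.hom) (W : Over S) : Epi (W ◁ qo H) := by
  have := effectiveEpi_whiskerLeft (H := H) hp W
  exact (Over.forget _).epi_of_epi_map (f := W ◁ qo H) (inferInstanceAs (Epi (W ◁ qo H).left))

include hp in
theorem exists_act : ∃ act : G' ⊗ Q ⟶ Q, (G' ◁ qo H) ≫ act = m₀ H := by
  have := effectiveEpi_whiskerLeft (H := H) hp G'
  have hall : ∀ {Z : Scheme.{u}} (g₁ g₂ : Z ⟶ (G' ⊗ (G' ⊗ P)).left),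
      g₁ ≫ (G' ◁ qo H).left = g₂ ≫ (G' ◁ qo H).left → g₁ ≫ (m₀ H).left = g₂ ≫ (m₀ H).left := by
    intro Z g₁ g₂ hg
    let k₁ : Over.mk (g₁ ≫ (G' ⊗ (G' ⊗ P)).hom) ⟶ G' ⊗ (G' ⊗ P) := Over.homMk g₁ rfl
    let k₂ : Over.mk (g₁ ≫ (G' ⊗ (G' ⊗ P)).hom) ⟶ G' ⊗ (G' ⊗ P) := Over.homMk g₂ (by
      change g₂ ≫ (G' ⊗ (G' ⊗ P)).hom = g₁ ≫ (G' ⊗ (G' ⊗ P)).hom
      rw [← Over.w (G' ◁ qo H), ← Category.assoc, ← hg, Category.assoc])
    have hk : k₁ ≫ (G' ◁ qo H) = k₂ ≫ (G' ◁ qo H) := Over.OverMorphism.ext hg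
    have h1 : k₁ ≫ fst _ _ = k₂ ≫ fst _ _ := by
      simpa using congrArg (· ≫ fst G' Q) hk
    have h2 : (k₁ ≫ snd _ _) ≫ qo H = (k₂ ≫ snd _ _) ≫ qo H := by
      simpa using congrArg (· ≫ snd G' Q) hk
    have e : k₁ ≫ m₀ H = k₂ ≫ m₀ H := by
      rw [← Category.comp_id k₁, ← Category.comp_id k₂, ← lift_fst_snd, comp_lift, comp_lift, h1]
      exact m₀_congr H _ _ _ h2
    exact congrArg Over.Hom.left e
  refine ⟨Over.homMk (EffectiveEpi.desc (G' ◁ qo H).left (m₀ H).left hall) ?_,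
    Over.OverMorphism.ext (EffectiveEpi.fac _ _ hall)⟩
  rw [← cancel_epi (G' ◁ qo H).left, EffectiveEpi.fac_assoc, Over.w (m₀ H), Over.w (G' ◁ qo H)]

/-- The action on the contracted product. -/
def act : G' ⊗ Q ⟶ Q := (exists_act H hp).choose

theorem lift_act {T : Over S} (h : T ⟶ G') (v : T ⟶ G' ⊗ P) :
    lift h (v ≫ qo H) ≫ act H hp = lift (h * (v ≫ fst G' P)) (v ≫ snd G' P) ≫ qo H := by
  rw [← comp_m₀ H, ← (exists_act H hp).choose_spec, lift_whiskerLeft_assoc]
  rfl

/-- The action of the target group on the contracted product. -/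
def action : AlgGrp.Action G' Q where
  act := act H hp
  one_act := by
    have := epi_whiskerLeft (H := H) hp (𝟙_ (Over S))
    rw [← cancel_epi (𝟙_ (Over S) ◁ qo H), leftUnitor_hom, whiskerLeft_snd, whisker_exchange_assoc]
    have e : ∀ {T : Over S} (k : T ⟶ 𝟙_ (Over S)) (v : T ⟶ G' ⊗ P),
        lift k v ≫ (η[G'] ▷ (G' ⊗ P)) ≫ (G' ◁ qo H) ≫ act H hp = v ≫ qo H := by
      intro T k v
      rw [lift_whiskerRight_assoc, lift_whiskerLeft_assoc, lift_act, toUnit_unique k (toUnit T),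
        ← Hom.one_def, one_mul, ← comp_lift, lift_fst_snd, Category.comp_id]
    have := e (fst (𝟙_ (Over S)) (G' ⊗ P)) (snd _ _)
    rw [lift_fst_snd, Category.id_comp] at this
    exact this
  mul_act := by
    have := epi_whiskerLeft (H := H) hp (G' ⊗ G')
    rw [← cancel_epi ((G' ⊗ G') ◁ qo H), whisker_exchange_assoc]
    have e : ∀ {T : Over S} (g g' : T ⟶ G') (v : T ⟶ G' ⊗ P),
        lift (lift g g') v ≫ (μ[G'] ▷ (G' ⊗ P)) ≫ (G' ◁ qo H) ≫ act H hp =
        lift (lift g g') v ≫ ((G' ⊗ G') ◁ qo H) ≫ (α_ G' G' Q).hom ≫ (G' ◁ act H hp) ≫ act H hp := by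
      intro T g g' v
      rw [lift_whiskerRight_assoc, lift_whiskerLeft_assoc, lift_act, ← Hom.mul_def, lift_whiskerLeft_assoc,
        lift_lift_associator_hom_assoc, lift_whiskerLeft_assoc, lift_act, lift_act, lift_fst, lift_snd,
        mul_assoc]
    have := e (fst _ _ ≫ fst _ _) (fst _ _ ≫ snd _ _) (snd (G' ⊗ G') (G' ⊗ P))
    rw [← comp_lift, lift_fst_snd, Category.comp_id, lift_fst_snd, Category.id_comp, Category.id_comp] at this
    exact this

/-- The morphism from the torsor. -/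
def push : P ⟶ Q := lift 1 (𝟙 P) ≫ qo H

theorem push_equivariant :
    a.act ≫ push H = lift (fst G P ≫ φ) (snd G P ≫ push H) ≫ (action H hp).act := by
  show _ = _ ≫ act H hp
  have e1 : a.act ≫ push H = lift 1 a.act ≫ qo H := by
    rw [push, comp_lift_assoc, MonObj.comp_one, Category.comp_id]
  have e2 : snd G P ≫ push H = lift 1 (snd G P) ≫ qo H := by
    rw [push, comp_lift_assoc, MonObj.comp_one, Category.comp_id]
  rw [e1, e2, lift_act, lift_fst, lift_snd, mul_one, ← tr_qo H (lift (fst G P ≫ φ) (snd G P)) a.act, tr_eq,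
    lift_fst, lift_snd, diff_eq a ha (g := fst G P) (by rw [lift_fst_snd, Category.id_comp]), mul_inv_cancel]

theorem isIso_triv : IsIso (TorsorSch.Basic.triv (action H hp) (push H)) := by
  have e : TorsorSch.Basic.triv (action H hp) (push H) = lift (qo H) (snd G' P) := by
    apply CartesianMonoidalCategory.hom_ext
    · rw [TorsorSch.Basic.triv_fst, lift_fst]
      show (G' ◁ push H) ≫ act H hp = qo H
      have h1 : G' ◁ push H = lift (fst G' P) (snd G' P ≫ push H) := by
        apply CartesianMonoidalCategory.hom_ext <;> simp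
      have e2 : snd G' P ≫ push H = lift 1 (snd G' P) ≫ qo H := by
        rw [push, comp_lift_assoc, MonObj.comp_one, Category.comp_id]
      rw [h1, e2, lift_act, lift_fst, lift_snd, mul_one, lift_fst_snd, Category.id_comp]
    · rw [TorsorSch.Basic.triv_snd, lift_snd]
  rw [e]
  have sq := GrpSch.isPullback_left Q P
  have sq₁ : IsPullback (qo H).left (snd G' P).left Q.hom P.hom := H.isPullback.flip
  have hL : (lift (qo H) (snd G' P)).left = (IsPullback.isoIsPullback _ _ sq₁ sq).hom := by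
    apply sq.hom_ext
    · rw [IsPullback.isoIsPullback_hom_fst, ← Over.comp_left, lift_fst]
    · rw [IsPullback.isoIsPullback_hom_snd, ← Over.comp_left, lift_snd]
  have : IsIso ((Over.forget S).map (lift (qo H) (snd G' P))) := by
    change IsIso (lift (qo H) (snd G' P)).left
    rw [hL]
    infer_instance
  exact (isIso_iff_of_reflects_iso _ (Over.forget S)).mp this

theorem isTorsorFor_action {K : Precoverage Scheme.{u}} (hK : K ≤ Scheme.fpqcPrecoverage)
    (hcov : Presieve.singleton P.hom ∈ K S) : NonAbH1.IsTorsorFor K (action H hp) := by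
  refine ⟨TorsorSch.Basic.isPseudoTorsorSch_of_triv (action H hp) (hK S hcov) ?_, ⟨_, hcov, ?_⟩⟩
  · rintro S' g ⟨⟩
    exact ⟨push H, isIso_triv H hp⟩
  · rintro S' g ⟨⟩
    exact ⟨(push H).left, Over.w (push H)⟩

/-- Extension of the structure group along a homomorphism to an affine group. -/
theorem exists_pushforward {S : Scheme.{u}} {G G' P : Over S} [GrpObj G] [GrpObj G']
    (a : AlgGrp.Action G P) (ha : NonAbH1.IsPseudoTorsorSch a) (φ : G ⟶ G') [IsMonHom φ]
    [IsAffineHom G'.hom] {K : Precoverage Scheme.{u}} (hK : K ≤ Scheme.fpqcPrecoverage)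
    (hcov : Presieve.singleton P.hom ∈ K S) :
    ∃ (Q : Over S) (a' : AlgGrp.Action G' Q) (f : P ⟶ Q),
      NonAbH1.IsTorsorFor K a' ∧ IsAffineHom Q.hom ∧
        a.act ≫ f = lift (fst G P ≫ φ) (snd G P ≫ f) ≫ a'.act := by
  have hp : fpqcCover P.hom := hK S hcov
  have haff : IsAffineHom (datum a φ ha).obj.hom :=
    GrpSch.snd_left_of (P := @IsAffineHom) P inferInstance
  have hD : Mor2.IsQuasiAffine (datum a φ ha).obj.hom := ⟨inferInstance, fun V hV => by
    have : IsAffine ((datum a φ ha).obj.hom ⁻¹ᵁ V : Scheme.{u}) := hV.preimage _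
    infer_instance⟩
  obtain ⟨Q, q, H, -, hQ⟩ := exists_isDescended (datum a φ ha) hp hD
  exact ⟨Q, action H hp, push H, isTorsorFor_action H hp hK hcov, hQ haff, push_equivariant H hp⟩

end Groth.Agent.Lib.TorsPush
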