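import Groth.Prelude.Def_NonAbH2
import Groth.Prelude.Def_Desc
import Groth.Agent.Lib.FFDesc.Datum
import Groth.Agent.Lib.GrpSch.Basic
import Groth.Agent.Lib.TorsorSch.FibreProd

/-!
# The descent datum of the contracted product of a torsor along a homomorphism
-/

set_option autoImplicit false
set_option linter.style.haveILetI false
set_option linter.unusedSectionVars false

noncomputable section

universe u

open CategoryTheory CategoryTheory.Limits MonoidalCategory CartesianMonoidalCategory AlgebraicGeometry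
open scoped MonObj GrpObj

namespace Groth.Agent.Lib.TorsPush

variable {S : Scheme.{u}} {G G' P : Over S} [GrpObj G] [GrpObj G']
  (a : AlgGrp.Action G P) (φ : G ⟶ G') (ha : NonAbH1.IsPseudoTorsorSch a)

/-- The difference of two points. -/
def diff : P ⊗ P ⟶ G :=
  (TorsorSch.FibreProd.existsUnique_of_pseudo ha (fst P P) (snd P P)).choose

theorem diff_spec {T : Over S} (x y : T ⟶ P) : lift (lift x y ≫ diff a ha) x ≫ a.act = y := by
  have h := (TorsorSch.FibreProd.existsUnique_of_pseudo ha (fst P P) (snd P P)).choose_spec.1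
  have h' := congrArg (lift x y ≫ ·) h
  simp only [comp_lift_assoc, lift_fst, lift_snd] at h'
  exact h'

theorem diff_eq {T : Over S} {x y : T ⟶ P} {g : T ⟶ G} (h : lift g x ≫ a.act = y) :
    lift x y ≫ diff a ha = g :=
  (TorsorSch.FibreProd.existsUnique_of_pseudo ha x y).unique (diff_spec a ha x y) h

/-- The transport of a point of the contracted product along a pair of points of the torsor. -/
def tmap : (G' ⊗ P) ⊗ P ⟶ G' ⊗ P :=
  lift ((fst (G' ⊗ P) P ≫ fst G' P) * ((lift (fst (G' ⊗ P) P ≫ snd G' P) (snd (G' ⊗ P) P) ≫ diff a ha) ≫ φ)⁻¹)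
    (snd (G' ⊗ P) P)

/-- Transport on points. -/
def tr {T : Over S} (v : T ⟶ G' ⊗ P) (x : T ⟶ P) : T ⟶ G' ⊗ P := lift v x ≫ tmap a φ ha

variable {a φ ha}

theorem tr_eq {T : Over S} (v : T ⟶ G' ⊗ P) (x : T ⟶ P) :
    tr a φ ha v x = lift ((v ≫ fst G' P) * ((lift (v ≫ snd G' P) x ≫ diff a ha) ≫ φ)⁻¹) x := by
  simp only [tr, tmap, comp_lift, MonObj.comp_mul, GrpObj.comp_inv, comp_lift_assoc, lift_fst_assoc,
    lift_snd, Category.assoc]

theorem tr_snd {T : Over S} (v : T ⟶ G' ⊗ P) (x : T ⟶ P) : tr a φ ha v x ≫ snd G' P = x := by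
  rw [tr_eq, lift_snd]

theorem comp_tr {T T' : Over S} (k : T' ⟶ T) (v : T ⟶ G' ⊗ P) (x : T ⟶ P) :
    k ≫ tr a φ ha v x = tr a φ ha (k ≫ v) (k ≫ x) := by
  rw [tr, tr, comp_lift_assoc]

variable [IsMonHom φ]

theorem diff_self {T : Over S} (x : T ⟶ P) : lift x x ≫ diff a ha = 1 :=
  diff_eq a ha (GrpSch.act_one a x)

theorem diff_mul {T : Over S} (x y z : T ⟶ P) :
    lift x z ≫ diff a ha = (lift y z ≫ diff a ha) * (lift x y ≫ diff a ha) :=
  diff_eq a ha (by rw [GrpSch.act_mul, diff_spec, diff_spec])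

theorem tr_self {T : Over S} (v : T ⟶ G' ⊗ P) : tr a φ ha v (v ≫ snd G' P) = v := by
  rw [tr_eq, diff_self, MonObj.one_comp, inv_one, mul_one, ← comp_lift, lift_fst_snd, Category.comp_id]

theorem tr_tr {T : Over S} (v : T ⟶ G' ⊗ P) (x y : T ⟶ P) :
    tr a φ ha (tr a φ ha v x) y = tr a φ ha v y := by
  rw [tr_eq (tr a φ ha v x) y, tr_snd, tr_eq v x, lift_fst, tr_eq v y, mul_assoc, ← mul_inv_rev,
    ← MonObj.mul_comp, ← diff_mul]

/-! ### Transport on points of the underlying schemes -/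

variable (a φ ha)

/-- Transport, on points of the underlying schemes. -/
def trS {T : Scheme.{u}} (v : T ⟶ (G' ⊗ P).left) (x : T ⟶ P.left) (h : v ≫ (G' ⊗ P).hom = x ≫ P.hom) :
    T ⟶ (G' ⊗ P).left :=
  (tr a φ ha (Over.homMk (U := Over.mk (x ≫ P.hom)) v h) (Over.homMk x rfl)).left

variable {a φ ha}

theorem trS_left {T : Over S} (v : T ⟶ G' ⊗ P) (x : T ⟶ P)
    (h : v.left ≫ (G' ⊗ P).hom = x.left ≫ P.hom) :
    trS a φ ha v.left x.left h = (tr a φ ha v x).left := by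
  let k : Over.mk (x.left ≫ P.hom) ⟶ T := Over.homMk (𝟙 T.left) (by
    exact (Category.id_comp _).trans (Over.w x).symm)
  have h1 := congrArg Over.Hom.left (comp_tr (a := a) (φ := φ) (ha := ha) k v x)
  refine Eq.trans ?_ (((Category.id_comp (tr a φ ha v x).left).symm.trans h1).symm)
  have e1 : k ≫ v = Over.homMk (U := Over.mk (x.left ≫ P.hom)) v.left h :=
    Over.OverMorphism.ext (Category.id_comp _)
  have e2 : k ≫ x = Over.homMk (U := Over.mk (x.left ≫ P.hom)) x.left rfl :=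
    Over.OverMorphism.ext (Category.id_comp _)
  rw [e1, e2]
  rfl

theorem snd_left_comp : (snd G' P).left ≫ P.hom = (G' ⊗ P).hom := Over.w (snd G' P)

theorem trS_snd {T : Scheme.{u}} (v : T ⟶ (G' ⊗ P).left) (x : T ⟶ P.left)
    (h : v ≫ (G' ⊗ P).hom = x ≫ P.hom) : trS a φ ha v x h ≫ (snd G' P).left = x :=
  congrArg Over.Hom.left (tr_snd (a := a) (φ := φ) (ha := ha)
    (Over.homMk (U := Over.mk (x ≫ P.hom)) v h) (Over.homMk x rfl))

theorem trS_congr {T : Scheme.{u}} {v v' : T ⟶ (G' ⊗ P).left} {x x' : T ⟶ P.left}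
    {h : v ≫ (G' ⊗ P).hom = x ≫ P.hom} {h' : v' ≫ (G' ⊗ P).hom = x' ≫ P.hom} (ev : v = v') (ex : x = x') :
    trS a φ ha v x h = trS a φ ha v' x' h' := by
  subst ev ex
  rfl

theorem trS_self {T : Scheme.{u}} (v : T ⟶ (G' ⊗ P).left) (x : T ⟶ P.left)
    (h : v ≫ (G' ⊗ P).hom = x ≫ P.hom) (e : v ≫ (snd G' P).left = x) : trS a φ ha v x h = v := by
  subst e
  let vo : Over.mk ((v ≫ (snd G' P).left) ≫ P.hom) ⟶ G' ⊗ P := Over.homMk v h
  exact (trS_left vo (vo ≫ snd G' P) h).trans (congrArg Over.Hom.left (tr_self vo))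

theorem trS_trS {T : Scheme.{u}} (v : T ⟶ (G' ⊗ P).left) (x y : T ⟶ P.left)
    (h : v ≫ (G' ⊗ P).hom = x ≫ P.hom) (h' : trS a φ ha v x h ≫ (G' ⊗ P).hom = y ≫ P.hom)
    (h'' : v ≫ (G' ⊗ P).hom = y ≫ P.hom) :
    trS a φ ha (trS a φ ha v x h) y h' = trS a φ ha v y h'' := by
  let To := Over.mk (x ≫ P.hom)
  let vo : To ⟶ G' ⊗ P := Over.homMk v h
  let xo : To ⟶ P := Over.homMk x rfl
  let yo : To ⟶ P := Over.homMk y (h''.symm.trans h)
  exact (trS_left (tr a φ ha vo xo) yo h').trans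
    ((congrArg Over.Hom.left (tr_tr vo xo yo)).trans (trS_left vo yo h'').symm)

variable (a φ ha)

theorem hom_eq_of_lift {T : Scheme.{u}} {x₀ x₁ : T ⟶ P.left} (h : x₀ ≫ P.hom = x₁ ≫ P.hom)
    (v : Desc.Lifts (Over.mk (snd G' P).left) x₀) : v.1 ≫ (G' ⊗ P).hom = x₁ ≫ P.hom := by
  exact (congrArg (v.1 ≫ ·) snd_left_comp.symm).trans
    ((Category.assoc v.1 (snd G' P).left P.hom).symm.trans ((congrArg (· ≫ P.hom) v.2).trans h))

/-- The descent datum of the contracted product. -/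
def datum : Desc.SchDD P.hom where
  obj := Over.mk (snd G' P).left
  φ T x₀ x₁ h :=
    { toFun := fun v => ⟨trS a φ ha v.1 x₁ (hom_eq_of_lift h v), trS_snd _ _ _⟩
      invFun := fun v => ⟨trS a φ ha v.1 x₀ (hom_eq_of_lift h.symm v), trS_snd _ _ _⟩
      left_inv := fun v => Subtype.ext ((trS_trS v.1 x₁ x₀ (hom_eq_of_lift h v) _
        (hom_eq_of_lift rfl v)).trans (trS_self _ _ _ v.2))
      right_inv := fun v => Subtype.ext ((trS_trS v.1 x₀ x₁ (hom_eq_of_lift h.symm v) _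
        (hom_eq_of_lift rfl v)).trans (trS_self _ _ _ v.2)) }
  φ_natural T T' g x₀ x₁ h h' v v' hv := by
    show trS a φ ha v'.1 (g ≫ x₁) _ = g ≫ trS a φ ha v.1 x₁ _
    let vo : Over.mk (x₁ ≫ P.hom) ⟶ G' ⊗ P := Over.homMk v.1 (hom_eq_of_lift h v)
    let xo : Over.mk (x₁ ≫ P.hom) ⟶ P := Over.homMk x₁ rfl
    let k : Over.mk (g ≫ x₁ ≫ P.hom) ⟶ Over.mk (x₁ ≫ P.hom) := Over.homMk g rfl
    have hk : (k ≫ vo).left ≫ (G' ⊗ P).hom = (k ≫ xo).left ≫ P.hom := (Over.w _).trans (Over.w _).symm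
    exact ((trS_congr hv rfl).trans (trS_left (k ≫ vo) (k ≫ xo) hk)).trans
      (congrArg Over.Hom.left (comp_tr k vo xo).symm)
  φ_self T x v := Subtype.ext (trS_self _ _ _ v.2)
  φ_comp T x₀ x₁ x₂ h₀₁ h₁₂ v := Subtype.ext (trS_trS _ _ _ _ _ _)

variable {a φ ha}

open FFDesc in
/-- Points with the same image in a descended scheme differ by transport. -/
theorem tr_comp_q {Q : Over S} {q : (G' ⊗ P).left ⟶ Q.left} (H : IsDescended (datum a φ ha) Q q)
    {T : Over S} (v : T ⟶ G' ⊗ P) (x : T ⟶ P) : (tr a φ ha v x).left ≫ q = v.left ≫ q := by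
  have h : (v.left ≫ (snd G' P).left) ≫ P.hom = x.left ≫ P.hom := by
    rw [Category.assoc, snd_left_comp, Over.w v, Over.w x]
  rw [← trS_left v x ((Over.w v).trans (Over.w x).symm)]
  exact H.φ_comp_q (v.left ≫ (snd G' P).left) x.left h ⟨v.left, rfl⟩

open FFDesc in
theorem tr_of_comp_q {Q : Over S} {q : (G' ⊗ P).left ⟶ Q.left} (H : IsDescended (datum a φ ha) Q q)
    {T : Over S} (v w : T ⟶ G' ⊗ P) (e : v.left ≫ q = w.left ≫ q) :
    tr a φ ha v (w ≫ snd G' P) = w := by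
  obtain ⟨h', hb⟩ := H.kernelPair v.left w.left e
  have h : (v.left ≫ (snd G' P).left) ≫ P.hom = (w ≫ snd G' P).left ≫ P.hom := by
    rw [Category.assoc, snd_left_comp, Over.w v, Over.w (w ≫ snd G' P)]
  refine Over.OverMorphism.ext ?_
  rw [← trS_left v (w ≫ snd G' P) ((Over.w v).trans (Over.w _).symm)]
  refine Eq.trans ?_ hb
  exact (φ_eq (datum a φ ha) (v.left ≫ (snd G' P).left) ((w ≫ snd G' P).left) h ⟨v.left, rfl⟩)

end Groth.Agent.Lib.TorsPush
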