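import Groth.Agent.Lib.TorsPush.Cocycle
import Groth.Agent.Lib.TorsPush.Datum

/-!
# Push forward of fpqc torsors along homomorphisms to affine groups, with no flatness
-/

set_option autoImplicit false
set_option linter.style.haveILetI false
set_option linter.unusedSectionVars false

noncomputable section

universe u

open CategoryTheory CategoryTheory.Limits MonoidalCategory CartesianMonoidalCategory AlgebraicGeometry
open scoped MonObj GrpObj

namespace Groth.Agent.Lib.TorsPush.AffinePush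

open FFDesc

variable {S : Scheme.{u}}

/-- A locally trivial scheme has a section on a single fpqc cover. -/
theorem exists_cover_section {X : Over S}
    (h : NonAbH1.IsLocallyTrivialFor Scheme.fpqcPrecoverage X) :
    ∃ (W : Over S) (_ : W ⟶ X), fpqcCover W.hom := by
  obtain ⟨R, hR, hs⟩ := h
  obtain ⟨𝒰₀, h𝒰₀, rfl⟩ := Scheme.mem_propQCPrecoverage_iff_exists_quasiCompactCover.mp hR
  haveI := h𝒰₀
  let 𝒰 : Scheme.Cover.{u} (Scheme.precoverage (@Flat : MorphismProperty Scheme.{u})) S := 𝒰₀.qculift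
  have hs' : ∀ i : 𝒰.I₀, NonAbH1.HasSectionOver X (𝒰.f i) := by
    intro i
    rcases i with i | i
    · exact hs _ (Presieve.ofArrows.mk _)
    · have hh := (QuasiCompactCover.uliftHom 𝒰₀.toPreZeroHypercover).w₀ i
      obtain ⟨s, hs0⟩ := hs _ (Presieve.ofArrows.mk ((QuasiCompactCover.uliftHom 𝒰₀.toPreZeroHypercover).s₀ i))
      refine ⟨(QuasiCompactCover.uliftHom 𝒰₀.toPreZeroHypercover).h₀ i ≫ s, ?_⟩
      rw [Category.assoc, hs0]
      exact hh
  choose s hs'' using hs'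
  refine ⟨Over.mk (Sigma.desc 𝒰.f), Over.homMk (Sigma.desc s) (Limits.Sigma.hom_ext _ _ fun i => ?_), ?_⟩
  · rw [Sigma.ι_desc_assoc, hs'']
    exact (Sigma.ι_desc 𝒰.f i).symm
  · have hq : QuasiCompactCover 𝒰.sigma.toPreZeroHypercover :=
      .of_hom (𝒱 := 𝒰.toPreZeroHypercover) 𝒰.toSigma
    show Presieve.singleton (Sigma.desc 𝒰.f) ∈ Scheme.fpqcPrecoverage S
    have he : 𝒰.sigma.presieve₀ = Presieve.singleton (Sigma.desc 𝒰.f) := Scheme.Cover.presieve₀_sigma 𝒰
    exact ⟨he ▸ Scheme.presieve₀_mem_qcPrecoverage_iff.mpr hq, he ▸ 𝒰.sigma.mem₀⟩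

variable {G G' P W : Over S} [GrpObj G] [GrpObj G'] (a : AlgGrp.Action G P) (φ : G ⟶ G') [IsMonHom φ]
  (ha : NonAbH1.IsPseudoTorsorSch a) (s : W ⟶ P)

/-- The cocycle of a section on a cover. -/
def coc : W ⊗ W ⟶ G' := lift (fst W W ≫ s) (snd W W ≫ s) ≫ diff a ha ≫ φ

theorem lift_coc {T : Over S} (x y : T ⟶ W) :
    lift x y ≫ coc a φ ha s = (lift (x ≫ s) (y ≫ s) ≫ diff a ha) ≫ φ := by
  simp only [coc, comp_lift_assoc, lift_fst_assoc, lift_snd_assoc, Category.assoc]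

theorem isCocycle_coc : Cocycle.IsCocycle (coc a φ ha s) where
  self x := by rw [lift_coc, diff_self, MonObj.one_comp]
  mul x y z := by rw [lift_coc, lift_coc, lift_coc, ← MonObj.mul_comp, ← diff_mul]

include ha s in
/-- The push forward exists. -/
theorem exists_pushforward [IsAffineHom G'.hom] (hW : fpqcCover W.hom) :
    ∃ (Q : Over S) (a' : AlgGrp.Action G' Q) (f : P ⟶ Q),
      NonAbH1.IsTorsorFor Scheme.fpqcPrecoverage a' ∧
        a.act ≫ f = lift (fst G P ≫ φ) (snd G P ≫ f) ≫ a'.act := by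
  let hc := isCocycle_coc a φ ha s
  have haff : IsAffineHom (Cocycle.datum _ hc).obj.hom :=
    GrpSch.snd_left_of (P := @IsAffineHom) W inferInstance
  have hD : Mor2.IsQuasiAffine (Cocycle.datum _ hc).obj.hom := ⟨inferInstance, fun V hV => by
    have : IsAffine ((Cocycle.datum _ hc).obj.hom ⁻¹ᵁ V : Scheme.{u}) := hV.preimage _
    infer_instance⟩
  obtain ⟨Q, q, H, -, -⟩ := exists_isDescended (Cocycle.datum _ hc) hW hD
  have hcov : fpqcCover (fst P W).left := GrpSch.fst_left_of P hW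
  haveI := hcov.effectiveEpi
  let g : P ⊗ W ⟶ Q :=
    lift ((lift (snd P W ≫ s) (fst P W) ≫ diff a ha) ≫ φ) (snd P W) ≫ Cocycle.qo H
  have hg : ∀ {T : Over S} (x : T ⟶ P) (w : T ⟶ W),
      lift x w ≫ g = lift ((lift (w ≫ s) x ≫ diff a ha) ≫ φ) w ≫ Cocycle.qo H := by
    intro T x w
    simp only [g, comp_lift_assoc, lift_snd_assoc, lift_fst, lift_snd, Category.assoc]
  have hinv : ∀ {T : Over S} (x : T ⟶ P) (w w' : T ⟶ W), lift x w ≫ g = lift x w' ≫ g := by
    intro T x w w'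
    rw [hg, hg, ← Cocycle.tr_qo H (lift ((lift (w ≫ s) x ≫ diff a ha) ≫ φ) w) w', Cocycle.tr_eq, lift_fst,
      lift_snd, lift_coc]
    congr 2
    rw [diff_mul (a := a) (ha := ha) (w ≫ s) (w' ≫ s) x, MonObj.mul_comp]
    exact mul_inv_cancel_right _ _
  have hall : ∀ {Z : Scheme.{u}} (g₁ g₂ : Z ⟶ (P ⊗ W).left),
      g₁ ≫ (fst P W).left = g₂ ≫ (fst P W).left → g₁ ≫ g.left = g₂ ≫ g.left := by
    intro Z g₁ g₂ he
    let k₁ : Over.mk (g₁ ≫ (P ⊗ W).hom) ⟶ P ⊗ W := Over.homMk g₁ rfl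
    let k₂ : Over.mk (g₁ ≫ (P ⊗ W).hom) ⟶ P ⊗ W := Over.homMk g₂ (by
      change g₂ ≫ (P ⊗ W).hom = g₁ ≫ (P ⊗ W).hom
      rw [← Over.w (fst P W), ← Category.assoc, ← he, Category.assoc])
    have hk : k₁ ≫ fst P W = k₂ ≫ fst P W := Over.OverMorphism.ext he
    have e : k₁ ≫ g = k₂ ≫ g := by
      rw [← Category.comp_id k₁, ← Category.comp_id k₂, ← lift_fst_snd, comp_lift, comp_lift, hk]
      exact hinv _ _ _
    exact congrArg Over.Hom.left e
  let f : P ⟶ Q := Over.homMk (EffectiveEpi.desc (fst P W).left g.left hall) (by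
    rw [← cancel_epi (fst P W).left, EffectiveEpi.fac_assoc, Over.w g, Over.w (fst P W)])
  have hf : fst P W ≫ f = g := Over.OverMorphism.ext (EffectiveEpi.fac _ _ hall)
  refine ⟨Q, Cocycle.action H hW, f, Cocycle.isTorsorFor_action H hW le_rfl hW, ?_⟩
  haveI : Epi (fst (G ⊗ P) W) := by
    haveI := (GrpSch.fst_left_of (P := fpqcCover) (G ⊗ P) hW).effectiveEpi
    exact (Over.forget _).epi_of_epi_map (f := fst (G ⊗ P) W) (inferInstanceAs (Epi (fst (G ⊗ P) W).left))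
  rw [← cancel_epi (fst (G ⊗ P) W)]
  have e : ∀ {T : Over S} (k : T ⟶ G) (x : T ⟶ P) (w : T ⟶ W),
      (lift k x ≫ a.act) ≫ f = lift (k ≫ φ) (x ≫ f) ≫ (Cocycle.action H hW).act := by
    intro T k x w
    have hx : ∀ y : T ⟶ P, y ≫ f = lift y w ≫ g := fun y => by rw [← hf, lift_fst_assoc]
    rw [hx, hx, hg, hg]
    show _ = lift (k ≫ φ) _ ≫ Cocycle.act H hW
    rw [Cocycle.lift_act, lift_fst, lift_snd, ← MonObj.mul_comp]
    congr 3
    refine diff_eq a ha ?_
    rw [GrpSch.act_mul, diff_spec]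
  have := e (fst (G ⊗ P) W ≫ fst G P) (fst (G ⊗ P) W ≫ snd G P) (snd (G ⊗ P) W)
  rw [← comp_lift, lift_fst_snd, Category.comp_id] at this
  simp only [Category.assoc, comp_lift_assoc] at this ⊢
  exact this

end Groth.Agent.Lib.TorsPush.AffinePush
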