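import Groth.Prelude.Def_NonAbH2
import Groth.Prelude.Def_Desc
import Groth.Agent.Lib.FFDesc.Datum
import Groth.Agent.Lib.FFDesc.Effective
import Groth.Agent.Lib.GrpSch.Basic
import Groth.Agent.Lib.TorsorSch.Basic
import Groth.Agent.Lib.TorsorSch.Descent

/-!
# The torsor of a cocycle with values in an affine group scheme

For a cocycle `c : P ⊗ P ⟶ G'` on a covering `P` of the base, the scheme obtained by descending
`G' ⊗ P` along the twist by `c`, with the action of `G'` by left translations.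
-/

set_option autoImplicit false
set_option linter.style.haveILetI false
set_option linter.unusedSectionVars false

noncomputable section

universe u

open CategoryTheory CategoryTheory.Limits MonoidalCategory CartesianMonoidalCategory AlgebraicGeometry
open scoped MonObj GrpObj

namespace Groth.Agent.Lib.TorsPush.Cocycle

variable {S : Scheme.{u}} {G' P : Over S} [GrpObj G']

/-- The cocycle conditions. -/
structure IsCocycle (c : P ⊗ P ⟶ G') : Prop where
  self : ∀ {T : Over S} (x : T ⟶ P), lift x x ≫ c = 1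
  mul : ∀ {T : Over S} (x y z : T ⟶ P), lift x z ≫ c = (lift y z ≫ c) * (lift x y ≫ c)

variable (c : P ⊗ P ⟶ G')

/-- The transport of a point along a pair of points. -/
def tmap : (G' ⊗ P) ⊗ P ⟶ G' ⊗ P :=
  lift ((fst (G' ⊗ P) P ≫ fst G' P) * (lift (fst (G' ⊗ P) P ≫ snd G' P) (snd (G' ⊗ P) P) ≫ c)⁻¹)
    (snd (G' ⊗ P) P)

/-- Transport on points. -/
def tr {T : Over S} (v : T ⟶ G' ⊗ P) (x : T ⟶ P) : T ⟶ G' ⊗ P := lift v x ≫ tmap c

variable {c}

theorem tr_eq {T : Over S} (v : T ⟶ G' ⊗ P) (x : T ⟶ P) :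
    tr c v x = lift ((v ≫ fst G' P) * (lift (v ≫ snd G' P) x ≫ c)⁻¹) x := by
  simp only [tr, tmap, comp_lift, MonObj.comp_mul, GrpObj.comp_inv, comp_lift_assoc, lift_fst_assoc,
    lift_snd, Category.assoc]

theorem tr_snd {T : Over S} (v : T ⟶ G' ⊗ P) (x : T ⟶ P) : tr c v x ≫ snd G' P = x := by
  rw [tr_eq, lift_snd]

theorem comp_tr {T T' : Over S} (k : T' ⟶ T) (v : T ⟶ G' ⊗ P) (x : T ⟶ P) :
    k ≫ tr c v x = tr c (k ≫ v) (k ≫ x) := by
  rw [tr, tr, comp_lift_assoc]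

theorem tr_self (hc : IsCocycle c) {T : Over S} (v : T ⟶ G' ⊗ P) : tr c v (v ≫ snd G' P) = v := by
  rw [tr_eq, hc.self, inv_one, mul_one, ← comp_lift, lift_fst_snd, Category.comp_id]

theorem tr_tr (hc : IsCocycle c) {T : Over S} (v : T ⟶ G' ⊗ P) (x y : T ⟶ P) :
    tr c (tr c v x) y = tr c v y := by
  rw [tr_eq (tr c v x) y, tr_snd, tr_eq v x, lift_fst, tr_eq v y, mul_assoc, ← mul_inv_rev, ← hc.mul]

/-! ### Transport on points of the underlying schemes -/

variable (c)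

/-- Transport, on points of the underlying schemes. -/
def trS {T : Scheme.{u}} (v : T ⟶ (G' ⊗ P).left) (x : T ⟶ P.left) (h : v ≫ (G' ⊗ P).hom = x ≫ P.hom) :
    T ⟶ (G' ⊗ P).left :=
  (tr c (Over.homMk (U := Over.mk (x ≫ P.hom)) v h) (Over.homMk x rfl)).left

variable {c}

theorem trS_left {T : Over S} (v : T ⟶ G' ⊗ P) (x : T ⟶ P)
    (h : v.left ≫ (G' ⊗ P).hom = x.left ≫ P.hom) :
    trS c v.left x.left h = (tr c v x).left := by
  let k : Over.mk (x.left ≫ P.hom) ⟶ T := Over.homMk (𝟙 T.left) (by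
    exact (Category.id_comp _).trans (Over.w x).symm)
  have h1 := congrArg Over.Hom.left (comp_tr (c := c) k v x)
  refine Eq.trans ?_ (((Category.id_comp (tr c v x).left).symm.trans h1).symm)
  have e1 : k ≫ v = Over.homMk (U := Over.mk (x.left ≫ P.hom)) v.left h :=
    Over.OverMorphism.ext (Category.id_comp _)
  have e2 : k ≫ x = Over.homMk (U := Over.mk (x.left ≫ P.hom)) x.left rfl :=
    Over.OverMorphism.ext (Category.id_comp _)
  rw [e1, e2]
  rfl

theorem snd_left_comp : (snd G' P).left ≫ P.hom = (G' ⊗ P).hom := Over.w (snd G' P)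

theorem trS_snd {T : Scheme.{u}} (v : T ⟶ (G' ⊗ P).left) (x : T ⟶ P.left)
    (h : v ≫ (G' ⊗ P).hom = x ≫ P.hom) : trS c v x h ≫ (snd G' P).left = x :=
  congrArg Over.Hom.left (tr_snd (c := c)
    (Over.homMk (U := Over.mk (x ≫ P.hom)) v h) (Over.homMk x rfl))

theorem trS_congr {T : Scheme.{u}} {v v' : T ⟶ (G' ⊗ P).left} {x x' : T ⟶ P.left}
    {h : v ≫ (G' ⊗ P).hom = x ≫ P.hom} {h' : v' ≫ (G' ⊗ P).hom = x' ≫ P.hom} (ev : v = v') (ex : x = x') :
    trS c v x h = trS c v' x' h' := by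
  subst ev ex
  rfl

theorem trS_self (hc : IsCocycle c) {T : Scheme.{u}} (v : T ⟶ (G' ⊗ P).left) (x : T ⟶ P.left)
    (h : v ≫ (G' ⊗ P).hom = x ≫ P.hom) (e : v ≫ (snd G' P).left = x) : trS c v x h = v := by
  subst e
  let vo : Over.mk ((v ≫ (snd G' P).left) ≫ P.hom) ⟶ G' ⊗ P := Over.homMk v h
  exact (trS_left vo (vo ≫ snd G' P) h).trans (congrArg Over.Hom.left (tr_self hc vo))

theorem trS_trS (hc : IsCocycle c) {T : Scheme.{u}} (v : T ⟶ (G' ⊗ P).left) (x y : T ⟶ P.left)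
    (h : v ≫ (G' ⊗ P).hom = x ≫ P.hom) (h' : trS c v x h ≫ (G' ⊗ P).hom = y ≫ P.hom)
    (h'' : v ≫ (G' ⊗ P).hom = y ≫ P.hom) :
    trS c (trS c v x h) y h' = trS c v y h'' := by
  let To := Over.mk (x ≫ P.hom)
  let vo : To ⟶ G' ⊗ P := Over.homMk v h
  let xo : To ⟶ P := Over.homMk x rfl
  let yo : To ⟶ P := Over.homMk y (h''.symm.trans h)
  exact (trS_left (tr c vo xo) yo h').trans
    ((congrArg Over.Hom.left (tr_tr hc vo xo yo)).trans (trS_left vo yo h'').symm)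

variable (c)

theorem hom_eq_of_lift {T : Scheme.{u}} {x₀ x₁ : T ⟶ P.left} (h : x₀ ≫ P.hom = x₁ ≫ P.hom)
    (v : Desc.Lifts (Over.mk (snd G' P).left) x₀) : v.1 ≫ (G' ⊗ P).hom = x₁ ≫ P.hom := by
  exact (congrArg (v.1 ≫ ·) snd_left_comp.symm).trans
    ((Category.assoc v.1 (snd G' P).left P.hom).symm.trans ((congrArg (· ≫ P.hom) v.2).trans h))

/-- The descent datum of the contracted product. -/
def datum (hc : IsCocycle c) : Desc.SchDD P.hom where
  obj := Over.mk (snd G' P).left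
  φ T x₀ x₁ h :=
    { toFun := fun v => ⟨trS c v.1 x₁ (hom_eq_of_lift h v), trS_snd _ _ _⟩
      invFun := fun v => ⟨trS c v.1 x₀ (hom_eq_of_lift h.symm v), trS_snd _ _ _⟩
      left_inv := fun v => Subtype.ext ((trS_trS hc v.1 x₁ x₀ (hom_eq_of_lift h v) _
        (hom_eq_of_lift rfl v)).trans (trS_self hc _ _ _ v.2))
      right_inv := fun v => Subtype.ext ((trS_trS hc v.1 x₀ x₁ (hom_eq_of_lift h.symm v) _
        (hom_eq_of_lift rfl v)).trans (trS_self hc _ _ _ v.2)) }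
  φ_natural T T' g x₀ x₁ h h' v v' hv := by
    show trS c v'.1 (g ≫ x₁) _ = g ≫ trS c v.1 x₁ _
    let vo : Over.mk (x₁ ≫ P.hom) ⟶ G' ⊗ P := Over.homMk v.1 (hom_eq_of_lift h v)
    let xo : Over.mk (x₁ ≫ P.hom) ⟶ P := Over.homMk x₁ rfl
    let k : Over.mk (g ≫ x₁ ≫ P.hom) ⟶ Over.mk (x₁ ≫ P.hom) := Over.homMk g rfl
    have hk : (k ≫ vo).left ≫ (G' ⊗ P).hom = (k ≫ xo).left ≫ P.hom := (Over.w _).trans (Over.w _).symm
    exact ((trS_congr hv rfl).trans (trS_left (k ≫ vo) (k ≫ xo) hk)).trans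
      (congrArg Over.Hom.left (comp_tr k vo xo).symm)
  φ_self T x v := Subtype.ext (trS_self hc _ _ _ v.2)
  φ_comp T x₀ x₁ x₂ h₀₁ h₁₂ v := Subtype.ext (trS_trS hc _ _ _ _ _ _)

variable {c}

variable {hc : IsCocycle c}

open FFDesc in
/-- Points with the same image in a descended scheme differ by transport. -/
theorem tr_comp_q {Q : Over S} {q : (G' ⊗ P).left ⟶ Q.left} (H : IsDescended (datum c hc) Q q)
    {T : Over S} (v : T ⟶ G' ⊗ P) (x : T ⟶ P) : (tr c v x).left ≫ q = v.left ≫ q := by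
  have h : (v.left ≫ (snd G' P).left) ≫ P.hom = x.left ≫ P.hom := by
    rw [Category.assoc, snd_left_comp, Over.w v, Over.w x]
  rw [← trS_left v x ((Over.w v).trans (Over.w x).symm)]
  exact H.φ_comp_q (v.left ≫ (snd G' P).left) x.left h ⟨v.left, rfl⟩

open FFDesc in
theorem tr_of_comp_q {Q : Over S} {q : (G' ⊗ P).left ⟶ Q.left} (H : IsDescended (datum c hc) Q q)
    {T : Over S} (v w : T ⟶ G' ⊗ P) (e : v.left ≫ q = w.left ≫ q) :
    tr c v (w ≫ snd G' P) = w := by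
  obtain ⟨h', hb⟩ := H.kernelPair v.left w.left e
  have h : (v.left ≫ (snd G' P).left) ≫ P.hom = (w ≫ snd G' P).left ≫ P.hom := by
    rw [Category.assoc, snd_left_comp, Over.w v, Over.w (w ≫ snd G' P)]
  refine Over.OverMorphism.ext ?_
  rw [← trS_left v (w ≫ snd G' P) ((Over.w v).trans (Over.w _).symm)]
  refine Eq.trans ?_ hb
  exact (φ_eq (datum c hc) (v.left ≫ (snd G' P).left) ((w ≫ snd G' P).left) h ⟨v.left, rfl⟩)

open FFDesc

variable {Q : Over S} {q : (G' ⊗ P).left ⟶ Q.left} (H : IsDescended (datum c hc) Q q) (hp : fpqcCover P.hom)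

/-- The quotient map of the contracted product, over the base. -/
def qo : G' ⊗ P ⟶ Q := Over.homMk q (H.isPullback.w.symm.trans (snd_left_comp (G' := G') (P := P)))

theorem fst_qo {T : Over S} (v w : T ⟶ G' ⊗ P) (e : v ≫ qo H = w ≫ qo H) :
    w ≫ fst G' P = (v ≫ fst G' P) * (lift (v ≫ snd G' P) (w ≫ snd G' P) ≫ c)⁻¹ := by
  have h := tr_of_comp_q H v w (congrArg Over.Hom.left e)
  have h' := congrArg (· ≫ fst G' P) h
  simp only [tr_eq, lift_fst] at h'
  exact h'.symm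

theorem tr_qo {T : Over S} (v : T ⟶ G' ⊗ P) (x : T ⟶ P) : tr c v x ≫ qo H = v ≫ qo H :=
  Over.OverMorphism.ext (tr_comp_q H v x)

/-- Left translation, before descent. -/
def m₀ : G' ⊗ (G' ⊗ P) ⟶ Q :=
  lift (fst _ _ * (snd G' (G' ⊗ P) ≫ fst G' P)) (snd G' (G' ⊗ P) ≫ snd G' P) ≫ qo H

theorem comp_m₀ {T : Over S} (h : T ⟶ G') (v : T ⟶ G' ⊗ P) :
    lift h v ≫ m₀ H = lift (h * (v ≫ fst G' P)) (v ≫ snd G' P) ≫ qo H := by
  simp only [m₀, comp_lift_assoc, MonObj.comp_mul, lift_fst, lift_snd_assoc]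

theorem m₀_congr {T : Over S} (h : T ⟶ G') (v w : T ⟶ G' ⊗ P) (e : v ≫ qo H = w ≫ qo H) :
    lift h v ≫ m₀ H = lift h w ≫ m₀ H := by
  rw [comp_m₀, comp_m₀, fst_qo H v w e, ← tr_qo H (lift (h * (v ≫ fst G' P)) (v ≫ snd G' P)) (w ≫ snd G' P),
    tr_eq, lift_fst, lift_snd, mul_assoc]

variable {H} in
theorem effectiveEpi_whiskerLeft (hp : fpqcCover P.hom) (W : Over S) :
    EffectiveEpi (W ◁ qo H).left :=
  (GrpSch.whiskerLeft_left_of (P := fpqcCover) W (qo H) (H.cover hp)).effectiveEpi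

variable {H} in
theorem epi_whiskerLeft (hp : fpqcCover P.hom) (W : Over S) : Epi (W ◁ qo H) := by
  have := effectiveEpi_whiskerLeft (H := H) hp W
  exact (Over.forget _).epi_of_epi_map (f := W ◁ qo H) (inferInstanceAs (Epi (W ◁ qo H).left))

include hp in
theorem exists_act : ∃ act : G' ⊗ Q ⟶ Q, (G' ◁ qo H) ≫ act = m₀ H := by
  have := effectiveEpi_whiskerLeft (H := H) hp G'
  have hall : ∀ {Z : Scheme.{u}} (g₁ g₂ : Z ⟶ (G' ⊗ (G' ⊗ P)).left),
      g₁ ≫ (G' ◁ qo H).left = g₂ ≫ (G' ◁ qo H).left → g₁ ≫ (m₀ H).left = g₂ ≫ (m₀ H).left := by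
    intro Z g₁ g₂ hg
    let k₁ : Over.mk (g₁ ≫ (G' ⊗ (G' ⊗ P)).hom) ⟶ G' ⊗ (G' ⊗ P) := Over.homMk g₁ rfl
    let k₂ : Over.mk (g₁ ≫ (G' ⊗ (G' ⊗ P)).hom) ⟶ G' ⊗ (G' ⊗ P) := Over.homMk g₂ (by
      change g₂ ≫ (G' ⊗ (G' ⊗ P)).hom = g₁ ≫ (G' ⊗ (G' ⊗ P)).hom
      rw [← Over.w (G' ◁ qo H), ← Category.assoc, ← hg, Category.assoc])
    have hk : k₁ ≫ (G' ◁ qo H) = k₂ ≫ (G' ◁ qo H) := Over.OverMorphism.ext hg
    have h1 : k₁ ≫ fst _ _ = k₂ ≫ fst _ _ := by
      simpa using congrArg (· ≫ fst G' Q) hk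
    have h2 : (k₁ ≫ snd _ _) ≫ qo H = (k₂ ≫ snd _ _) ≫ qo H := by
      simpa using congrArg (· ≫ snd G' Q) hk
    have e : k₁ ≫ m₀ H = k₂ ≫ m₀ H := by
      rw [← Category.comp_id k₁, ← Category.comp_id k₂, ← lift_fst_snd, comp_lift, comp_lift, h1]
      exact m₀_congr H _ _ _ h2
    exact congrArg Over.Hom.left e
  refine ⟨Over.homMk (EffectiveEpi.desc (G' ◁ qo H).left (m₀ H).left hall) ?_,
    Over.OverMorphism.ext (EffectiveEpi.fac _ _ hall)⟩
  rw [← cancel_epi (G' ◁ qo H).left, EffectiveEpi.fac_assoc, Over.w (m₀ H), Over.w (G' ◁ qo H)]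

/-- The action on the contracted product. -/
def act : G' ⊗ Q ⟶ Q := (exists_act H hp).choose

theorem lift_act {T : Over S} (h : T ⟶ G') (v : T ⟶ G' ⊗ P) :
    lift h (v ≫ qo H) ≫ act H hp = lift (h * (v ≫ fst G' P)) (v ≫ snd G' P) ≫ qo H := by
  rw [← comp_m₀ H, ← (exists_act H hp).choose_spec, lift_whiskerLeft_assoc]
  rfl

/-- The action of the target group on the contracted product. -/
def action : AlgGrp.Action G' Q where
  act := act H hp
  one_act := by
    have := epi_whiskerLeft (H := H) hp (𝟙_ (Over S))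
    rw [← cancel_epi (𝟙_ (Over S) ◁ qo H), leftUnitor_hom, whiskerLeft_snd, whisker_exchange_assoc]
    have e : ∀ {T : Over S} (k : T ⟶ 𝟙_ (Over S)) (v : T ⟶ G' ⊗ P),
        lift k v ≫ (η[G'] ▷ (G' ⊗ P)) ≫ (G' ◁ qo H) ≫ act H hp = v ≫ qo H := by
      intro T k v
      rw [lift_whiskerRight_assoc, lift_whiskerLeft_assoc, lift_act, toUnit_unique k (toUnit T),
        ← Hom.one_def, one_mul, ← comp_lift, lift_fst_snd, Category.comp_id]
    have := e (fst (𝟙_ (Over S)) (G' ⊗ P)) (snd _ _)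
    rw [lift_fst_snd, Category.id_comp] at this
    exact this
  mul_act := by
    have := epi_whiskerLeft (H := H) hp (G' ⊗ G')
    rw [← cancel_epi ((G' ⊗ G') ◁ qo H), whisker_exchange_assoc]
    have e : ∀ {T : Over S} (g g' : T ⟶ G') (v : T ⟶ G' ⊗ P),
        lift (lift g g') v ≫ (μ[G'] ▷ (G' ⊗ P)) ≫ (G' ◁ qo H) ≫ act H hp =
        lift (lift g g') v ≫ ((G' ⊗ G') ◁ qo H) ≫ (α_ G' G' Q).hom ≫ (G' ◁ act H hp) ≫ act H hp := by
      intro T g g' v
      rw [lift_whiskerRight_assoc, lift_whiskerLeft_assoc, lift_act, ← Hom.mul_def, lift_whiskerLeft_assoc,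
        lift_lift_associator_hom_assoc, lift_whiskerLeft_assoc, lift_act, lift_act, lift_fst, lift_snd,
        mul_assoc]
    have := e (fst _ _ ≫ fst _ _) (fst _ _ ≫ snd _ _) (snd (G' ⊗ G') (G' ⊗ P))
    rw [← comp_lift, lift_fst_snd, Category.comp_id, lift_fst_snd, Category.id_comp, Category.id_comp] at this
    exact this

/-- The morphism from the torsor. -/
def push : P ⟶ Q := lift 1 (𝟙 P) ≫ qo H

theorem isIso_triv : IsIso (TorsorSch.Basic.triv (action H hp) (push H)) := by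
  have e : TorsorSch.Basic.triv (action H hp) (push H) = lift (qo H) (snd G' P) := by
    apply CartesianMonoidalCategory.hom_ext
    · rw [TorsorSch.Basic.triv_fst, lift_fst]
      show (G' ◁ push H) ≫ act H hp = qo H
      have h1 : G' ◁ push H = lift (fst G' P) (snd G' P ≫ push H) := by
        apply CartesianMonoidalCategory.hom_ext <;> simp
      have e2 : snd G' P ≫ push H = lift 1 (snd G' P) ≫ qo H := by
        rw [push, comp_lift_assoc, MonObj.comp_one, Category.comp_id]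
      rw [h1, e2, lift_act, lift_fst, lift_snd, mul_one, lift_fst_snd, Category.id_comp]
    · rw [TorsorSch.Basic.triv_snd, lift_snd]
  rw [e]
  have sq := GrpSch.isPullback_left Q P
  have sq₁ : IsPullback (qo H).left (snd G' P).left Q.hom P.hom := H.isPullback.flip
  have hL : (lift (qo H) (snd G' P)).left = (IsPullback.isoIsPullback _ _ sq₁ sq).hom := by
    apply sq.hom_ext
    · rw [IsPullback.isoIsPullback_hom_fst, ← Over.comp_left, lift_fst]
    · rw [IsPullback.isoIsPullback_hom_snd, ← Over.comp_left, lift_snd]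
  have : IsIso ((Over.forget S).map (lift (qo H) (snd G' P))) := by
    change IsIso (lift (qo H) (snd G' P)).left
    rw [hL]
    infer_instance
  exact (isIso_iff_of_reflects_iso _ (Over.forget S)).mp this

theorem isTorsorFor_action {K : Precoverage Scheme.{u}} (hK : K ≤ Scheme.fpqcPrecoverage)
    (hcov : Presieve.singleton P.hom ∈ K S) : NonAbH1.IsTorsorFor K (action H hp) := by
  refine ⟨TorsorSch.Basic.isPseudoTorsorSch_of_triv (action H hp) (hK S hcov) ?_, ⟨_, hcov, ?_⟩⟩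
  · rintro S' g ⟨⟩
    exact ⟨push H, isIso_triv H hp⟩
  · rintro S' g ⟨⟩
    exact ⟨(push H).left, Over.w (push H)⟩

end Groth.Agent.Lib.TorsPush.Cocycle
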